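import Groth.Agent.ParHilbLib.Basic
import Groth.Agent.ShStabLib.Mono
import Groth.Agent.ShStabLib.Saturation

/-! The first modified parabolic polynomial is bounded by the parabolic polynomial. -/

set_option autoImplicit false
set_option backward.isDefEq.respectTransparency false
set_option linter.style.haveILetI false

universe u

open CategoryTheory CategoryTheory.Limits AlgebraicGeometry TopologicalSpace Polynomial
open StabCat

noncomputable section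

namespace Groth.Agent.ParHilbLib

variable {X : Scheme.{u}}

theorem wtX_le_succ {E : X.Modules} (𝓔 : ParSh.Str E) (j : Fin (𝓔.l + 1)) : 𝓔.wtX j.castSucc ≤ 𝓔.wtX j.succ := by
  induction j using Fin.lastCases with
  | last => rw [ParSh.Str.wtX_castSucc, Fin.succ_last, ParSh.Str.wtX_last]; exact 𝓔.wt_lt_one.le
  | cast i =>
    rw [ParSh.Str.wtX_castSucc, Fin.succ_castSucc, ParSh.Str.wtX_castSucc]
    exact 𝓔.wt_strictMono.monotone (Fin.le_def.2 (by simp))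

/-- Evaluation of the parabolic polynomial through the quotients. -/
theorem eval_parPoly {E : X.Modules} (𝓔 : ParSh.Str E) {P : ℚ[X]} {PX H : Fin (𝓔.l + 2) → ℚ[X]}
    (he : ∀ j, PX j = P - H j) (h0 : H 0 = 0) (m : ℕ) :
    (W4swparbununimod.parPoly 𝓔 PX).eval (m : ℝ) = ((P.eval (m : ℚ) : ℚ) : ℝ) -
      ∑ j : Fin (𝓔.l + 1), (𝓔.wtX j.succ - 𝓔.wtX j.castSucc) * (((H j.succ).eval (m : ℚ) : ℚ) : ℝ) := by
  have e : W4swparbununimod.parPoly 𝓔 PX = W4swparbununimod.rpoly P -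
      ∑ j : Fin (𝓔.l + 1), C (𝓔.wtX j.succ - 𝓔.wtX j.castSucc) * W4swparbununimod.rpoly (H j.succ) := by
    ext n
    rw [coeff_parPoly 𝓔 he h0, coeff_sub, finsetSum_coeff]
    simp only [coeff_C_mul, coeff_map, eq_ratCast]
  rw [e, eval_sub, eval_finsetSum]
  simp only [eval_mul, eval_C, eval_rpoly]

theorem eval_parPolyOne {E : X.Modules} (𝓔 : ParSh.Str E) (d : ℕ) (Q : ℚ[X]) (QH H : Fin (𝓔.l + 2) → ℚ[X]) (m : ℕ) :
    (W4swparbununimod.parPolyOne 𝓔 d Q QH H).eval (m : ℝ) = ((Q.eval (m : ℚ) : ℚ) : ℝ) -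
      ∑ j : Fin (𝓔.l + 1), (𝓔.wtX j.succ - 𝓔.wtX j.castSucc) *
        ((alpha (d - 1) (QH j.succ) / alpha (d - 1) (H j.succ) : ℚ) : ℝ) * (((H j.succ).eval (m : ℚ) : ℚ) : ℝ) := by
  rw [W4swparbununimod.parPolyOne, eval_sub, eval_finsetSum]
  simp only [eval_mul, eval_C, eval_rpoly]

variable (k : Type u) [Field k] [X.Over (Spec (CommRingCat.of k))]
  [IsProper (X ↘ Spec (CommRingCat.of k))] {L : X.Modules} (hamp : CohB1.IsAmple L)

include hamp in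
/-- Submodules of a semistable module, improper ones included. -/
theorem redLE_of_mono {d : ℕ} {G K : X.Modules} (hss : Coh.IsCoh G ∧ StabCat.IsSS Coh.IsCoh (ShStab.IsHilbPoly k X L) d G)
    (f : K ⟶ G) [Mono f] (hK : Coh.IsCoh K) {pK pG : ℚ[X]} (hpK : ShStab.IsHilbPoly k X L K pK)
    (hpG : ShStab.IsHilbPoly k X L G pG) : RedLE d pK pG := by
  by_cases hK0 : IsZero K
  · have : pK = 0 := ShStabLib.hp_unique k hpK fun m => by
      rw [eval_zero]; exact HilbLib.chi_isZero k hamp.1 hK0 m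
    subst this
    exact ⟨0, fun m _ => by simp [alpha]⟩
  by_cases hf : IsIso f
  · rw [ShStabLib.hp_unique k (ShStabLib.hp_iso k (asIso f) hpK) hpG]
    exact ⟨0, fun m _ => le_rfl⟩
  exact hss.2 K f inferInstance hK hK0 hf pK pG hpK hpG

include hamp in
/-- `par-P₁(W ⊂ E) ≤ Par_W` eventually. -/
theorem parPolyOne_le {E W : X.Modules} (hE : Coh.IsCoh E) (𝓔 : ParSh.Str E)
    (hcoh : ∀ j, Coh.IsCoh ((𝓔.pieceX j : Subobject E) : X.Modules)) (d : ℕ) (hd : 1 ≤ d)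
    (hsmall : ∀ j, topologicalKrullDim (CohB1.support (cokernel (𝓔.pieceX j).arrow)) < (d : WithBot ℕ∞))
    (H : Fin (𝓔.l + 2) → ℚ[X]) (hH : ∀ j, ShStab.IsHilbPoly k X L (cokernel (𝓔.pieceX j).arrow) (H j))
    (hHa : ∀ j : Fin (𝓔.l + 1), alpha (d - 1) (H j.succ) ≠ 0)
    (hq : ∀ j : Fin (𝓔.l + 1), Coh.IsCoh (cokernel (𝓔.pieceX j.succ).arrow) ∧
      StabCat.IsSS Coh.IsCoh (ShStab.IsHilbPoly k X L) (d - 1) (cokernel (𝓔.pieceX j.succ).arrow))
    (ι : W ⟶ E) [Mono ι] (hW : Coh.IsCoh W) {Q : ℚ[X]} (hQ : ShStab.IsHilbPoly k X L W Q)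
    (QH : Fin (𝓔.l + 2) → ℚ[X])
    (hQH : ∀ j, ShStab.IsHilbPoly k X L (cokernel ((𝓔.induced ι).pieceX j).arrow) (QH j))
    (QX : Fin (𝓔.l + 2) → ℚ[X])
    (hQX : ∀ j, ShStab.IsHilbPoly k X L (((𝓔.induced ι).pieceX j : Subobject W) : X.Modules) (QX j)) :
    ∀ᶠ m : ℕ in Filter.atTop, (W4swparbununimod.parPolyOne 𝓔 d Q QH H).eval (m : ℝ) ≤
      (W4swparbununimod.parPoly (𝓔.induced ι) QX).eval (m : ℝ) := by
  haveI := EulerIneqLib.isNoetherian_proper (X := X) k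
  have hcohW := isCoh_induced k ι 𝓔 hW hE hcoh
  obtain ⟨K, hK⟩ := exists_quots k hamp hW (𝓔.induced ι) hcohW d (small_induced ι 𝓔 hsmall) hQ QX hQX
  have hKQ : ∀ j, K j = QH j := fun j => ShStabLib.hp_unique k (hK.hp j) (hQH j)
  have hpos : ∀ j : Fin (𝓔.l + 1), 0 < alpha (d - 1) (H j.succ) := fun j => by
    refine lt_of_le_of_ne (ShStabLib.alpha_nonneg k hamp (hq j).1 ?_ (hH j.succ)) (hHa j).symm
    show topologicalKrullDim _ < _
    rw [show d - 1 + 1 = d by omega]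
    exact hsmall _
  have hred : ∀ j : Fin (𝓔.l + 1), RedLE (d - 1) (QH j.succ) (H j.succ) := fun j => by
    have h1 := hQH j.succ
    rw [pieceX_induced] at h1
    haveI := Abelian.mono_cokernel_map_of_isPullback (Subobject.isPullback ι (𝓔.pieceX j.succ)).flip
    have hc := (QCohLib.isCoh_kernel_cokernel ((Subobject.pullback ι).obj (𝓔.pieceX j.succ)).arrow
      (pieceX_induced ι 𝓔 j.succ ▸ hcohW j.succ) hW).2
    exact redLE_of_mono k hamp (hq j) (cokernel.map _ _ _ _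
      (Subobject.isPullback ι (𝓔.pieceX j.succ)).flip.w) hc h1 (hH j.succ)
  have hev : ∀ᶠ m : ℕ in Filter.atTop, ∀ j : Fin (𝓔.l + 1),
      alpha (d - 1) (H j.succ) * (QH j.succ).eval (m : ℚ) ≤ alpha (d - 1) (QH j.succ) * (H j.succ).eval (m : ℚ) :=
    Filter.eventually_all.2 fun j => by
      obtain ⟨N, hN⟩ := hred j
      exact Filter.eventually_atTop.2 ⟨N, fun m hm => by simpa using hN m hm⟩
  filter_upwards [hev] with m hm
  rw [eval_parPolyOne, eval_parPoly (𝓔.induced ι) hK.eq hK.zero]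
  refine sub_le_sub_left (Finset.sum_le_sum fun j _ => ?_) _
  rw [mul_assoc]
  refine mul_le_mul_of_nonneg_left ?_ (sub_nonneg.2 (wtX_le_succ 𝓔 j))
  show (((K j.succ).eval (m : ℚ) : ℚ) : ℝ) ≤ _
  rw [hKQ, ← Rat.cast_mul, Rat.cast_le, div_mul_eq_mul_div, le_div_iff₀ (hpos j)]
  rw [mul_comm]
  exact hm j

include hamp in
theorem exists_hp_pieces {E W : X.Modules} (hE : Coh.IsCoh E) (𝓔 : ParSh.Str E)
    (hcoh : ∀ j, Coh.IsCoh ((𝓔.pieceX j : Subobject E) : X.Modules)) {d : ℕ} (ι : W ⟶ E) (hW : Coh.IsCoh W)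
    (hd : ShStabLib.DimLE d W) :
    ∃ QX : Fin (𝓔.l + 2) → ℚ[X],
      ∀ j, ShStab.IsHilbPoly k X L (((𝓔.induced ι).pieceX j : Subobject W) : X.Modules) (QX j) := by
  haveI := EulerIneqLib.isNoetherian_proper (X := X) k
  choose QX _ hQX using fun j => ShStabLib.exists_hp k hamp (isCoh_induced k ι 𝓔 hW hE hcoh j)
    (ShStabLib.dimLE_of_mono hd ((𝓔.induced ι).pieceX j).arrow)
  exact ⟨QX, hQX⟩

end Groth.Agent.ParHilbLib

namespace Groth.Agent.ParHilbLib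

variable {X : Scheme.{u}} (k : Type u) [Field k] [X.Over (Spec (CommRingCat.of k))]
  [IsProper (X ↘ Spec (CommRingCat.of k))] {L : X.Modules} (hamp : CohB1.IsAmple L)

include hamp in
/-- The parabolic polynomial of induced structures grows along inclusions. -/
theorem parPoly_induced_mono {E W W' : X.Modules} (hE : Coh.IsCoh E) (𝓔 : ParSh.Str E)
    (hcoh : ∀ j, Coh.IsCoh ((𝓔.pieceX j : Subobject E) : X.Modules)) (d : ℕ)
    (hsmall : ∀ j, topologicalKrullDim (CohB1.support (cokernel (𝓔.pieceX j).arrow)) < (d : WithBot ℕ∞))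
    (ι : W ⟶ E) [Mono ι] (ι' : W' ⟶ E) [Mono ι'] (f : W ⟶ W') (hf : f ≫ ι' = ι)
    (hW : Coh.IsCoh W) (hW' : Coh.IsCoh W') {Q Q' : ℚ[X]} (hQ : ShStab.IsHilbPoly k X L W Q)
    (hQ' : ShStab.IsHilbPoly k X L W' Q') (QX QX' : Fin (𝓔.l + 2) → ℚ[X])
    (hQX : ∀ j, ShStab.IsHilbPoly k X L (((𝓔.induced ι).pieceX j : Subobject W) : X.Modules) (QX j))
    (hQX' : ∀ j, ShStab.IsHilbPoly k X L (((𝓔.induced ι').pieceX j : Subobject W') : X.Modules) (QX' j)) :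
    ∀ᶠ m : ℕ in Filter.atTop, (W4swparbununimod.parPoly (𝓔.induced ι) QX).eval (m : ℝ) ≤
      (W4swparbununimod.parPoly (𝓔.induced ι') QX').eval (m : ℝ) := by
  haveI := EulerIneqLib.isNoetherian_proper (X := X) k
  subst hf
  haveI : Mono f := mono_of_mono f ι'
  have hc := isCoh_induced k (f ≫ ι') 𝓔 hW hE hcoh
  have hc' := isCoh_induced k ι' 𝓔 hW' hE hcoh
  obtain ⟨K, hK⟩ := exists_quots k hamp hW (𝓔.induced (f ≫ ι')) hc d (small_induced (f ≫ ι') 𝓔 hsmall) hQ QX hQX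
  obtain ⟨K', hK'⟩ := exists_quots k hamp hW' (𝓔.induced ι') hc' d (small_induced ι' 𝓔 hsmall) hQ' QX' hQX'
  have hle : ∀ j : Fin (𝓔.l + 2), PolyLE (QX j) (QX' j) := fun j => by
    have h1 := hQX j
    have h2 := hQX' j
    have c1 := hc j
    have c2 := hc' j
    rw [pieceX_induced] at h1 h2 c1 c2
    have sq := Subobject.isPullback (f ≫ ι') (𝓔.pieceX j)
    let g := (Subobject.isPullback ι' (𝓔.pieceX j)).lift (Subobject.pullbackπ (f ≫ ι') (𝓔.pieceX j))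
      (((Subobject.pullback (f ≫ ι')).obj (𝓔.pieceX j)).arrow ≫ f) (by rw [Category.assoc]; exact sq.w)
    haveI : Mono g := mono_of_mono_fac ((Subobject.isPullback ι' (𝓔.pieceX j)).lift_snd _ _ _)
    exact (ShStabLib.polyLE_and_alpha_eq (d := d) k hamp c1 c2 g h1 h2).1
  have hev : ∀ᶠ m : ℕ in Filter.atTop, Q.eval (m : ℚ) ≤ Q'.eval (m : ℚ) ∧
      ∀ j : Fin (𝓔.l + 2), (QX j).eval (m : ℚ) ≤ (QX' j).eval (m : ℚ) :=
    (Filter.eventually_atTop.2 (ShStabLib.polyLE_and_alpha_eq (d := d) k hamp hW hW' f hQ hQ').1).and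
      (Filter.eventually_all.2 fun j => Filter.eventually_atTop.2 (hle j))
  filter_upwards [hev] with m ⟨hm0, hm⟩
  rw [eval_parPoly (𝓔.induced (f ≫ ι')) hK.eq hK.zero, eval_parPoly (𝓔.induced ι') hK'.eq hK'.zero]
  show ((Q.eval (m : ℚ) : ℚ) : ℝ) - ∑ j : Fin (𝓔.l + 1),
      (𝓔.wtX j.succ - 𝓔.wtX j.castSucc) * (((K j.succ).eval (m : ℚ) : ℚ) : ℝ) ≤
    ((Q'.eval (m : ℚ) : ℚ) : ℝ) - ∑ j : Fin (𝓔.l + 1),
      (𝓔.wtX j.succ - 𝓔.wtX j.castSucc) * (((K' j.succ).eval (m : ℚ) : ℚ) : ℝ)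
  have t := sum_telescope fun j => 𝓔.wtX j
  have hw0 : 𝓔.wtX 0 = 𝓔.wt 0 := 𝓔.wtX_castSucc 0
  rw [ParSh.Str.wtX_last, hw0] at t
  have hs : ∀ j : Fin (𝓔.l + 1), (𝓔.wtX j.succ - 𝓔.wtX j.castSucc) *
      (((K' j.succ).eval (m : ℚ) : ℚ) : ℝ) ≤ (𝓔.wtX j.succ - 𝓔.wtX j.castSucc) * (((K j.succ).eval (m : ℚ) : ℚ) : ℝ) +
        (𝓔.wtX j.succ - 𝓔.wtX j.castSucc) * ((((Q'.eval (m : ℚ) : ℚ) : ℝ)) - ((Q.eval (m : ℚ) : ℚ) : ℝ)) := fun j => by
    rw [← mul_add]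
    refine mul_le_mul_of_nonneg_left ?_ (sub_nonneg.2 (wtX_le_succ 𝓔 j))
    have := hm j.succ
    rw [hK.eq, hK'.eq, eval_sub, eval_sub] at this
    have h3 : (((Q.eval (m : ℚ) - (K j.succ).eval (m : ℚ)) : ℚ) : ℝ) ≤
        (((Q'.eval (m : ℚ) - (K' j.succ).eval (m : ℚ)) : ℚ) : ℝ) := Rat.cast_le.2 this
    push_cast at h3
    linarith
  have hsum := Finset.sum_le_sum (s := Finset.univ) fun j _ => hs j
  rw [Finset.sum_add_distrib, ← Finset.sum_mul, t] at hsum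
  have h0 : ((Q.eval (m : ℚ) : ℚ) : ℝ) ≤ ((Q'.eval (m : ℚ) : ℚ) : ℝ) := Rat.cast_le.2 hm0
  nlinarith [mul_le_mul_of_nonneg_left h0 𝓔.wt_nonneg]

end Groth.Agent.ParHilbLib
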