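import Groth.Agent.ShStabLib.Noeth
import Groth.Agent.RefOne.Divisor
import Groth.Agent.DCohLib.StalkTensor
import Groth.Prelude.Def_W4swparbununimodPar

/-! Hilbert polynomials of the quotients of a parabolic structure along a divisor. -/

set_option autoImplicit false
set_option backward.isDefEq.respectTransparency false
set_option linter.style.haveILetI false

universe u

open CategoryTheory CategoryTheory.Limits AlgebraicGeometry TopologicalSpace Polynomial
open Groth.Agent.PullbackMod Groth.Agent.DCohLib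

noncomputable section

namespace Groth.Agent.ParHilbLib

variable {X : Scheme.{u}}

theorem bijective_stalk_tensor_right {A B : X.Modules} (α : A ⟶ B) (T : X.Modules) {y : X}
    (h : Function.Bijective (stalkLin α y)) :
    Function.Bijective (stalkLin (((DCoh.tensorBi (X := X)).obj T).map α) y) := by
  have e : (stalkLin (((DCoh.tensorBi (X := X)).obj T).map α) y : _ → _) ∘ stalkTensor y T A =
      stalkTensor y T B ∘ (TensorProduct.congr (LinearEquiv.refl _ (T.presheaf.stalk y)) (LinearEquiv.ofBijective _ h)) :=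
    funext fun z => (stalkTensor_natural_right y α z).trans rfl
  refine (Function.Bijective.of_comp_iff _ (stalkTensor y T A).bijective).1 ?_
  rw [e]
  exact (stalkTensor y T B).bijective.comp (LinearEquiv.bijective _)

theorem subsingleton_coker {M N : X.Modules} (f : M ⟶ N) (x : X) (h : Function.Surjective (stalkLin f x)) :
    Subsingleton ((cokernel f).presheaf.stalk x) := by
  refine subsingleton_of_forall_eq 0 fun z => ?_
  obtain ⟨w, rfl⟩ := (epi_iff_stalk (cokernel.π f)).1 inferInstance x z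
  obtain ⟨v, rfl⟩ := h w
  rw [← LinearMap.comp_apply, ← stalkLin_comp, (eq_zero_iff_stalk _).1 (cokernel.condition f) x]
  rfl

theorem support_coker_twistSub [IsLocallyNoetherian X] (I : X.IdealSheafData) (E : X.Modules) :
    CohB1.support (cokernel (ParSh.twistSub I E).arrow) ⊆ CohB1.support E ∩ (I.support : Set X) := by
  refine Set.subset_inter (ShStabLib.support_subset_of_epi (cokernel.π _)) fun x hx => ?_
  by_contra hxI
  refine hx (subsingleton_coker _ x ?_)
  have htop : IntMult.stalkIdeal I x = ⊤ := by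
    obtain ⟨W, hW, hxW, -⟩ := exists_isAffineOpen_mem_and_subset (x := x) (U := (⊤ : X.Opens)) trivial
    rw [IdealStalkLib.stalkIdeal_eq I ⟨W, hW⟩ x hxW]
    by_contra hne
    apply hxI
    rw [SetLike.mem_coe, Scheme.IdealSheafData.mem_support_iff_of_mem (U := ⟨W, hW⟩) hxW, Scheme.mem_zeroLocus_iff]
    intro f hf hb
    apply hne
    exact Ideal.eq_top_of_isUnit_mem _ (Ideal.mem_map_of_mem _ hf) ((X.mem_basicOpen f x hxW).1 hb)
  have hι : Function.Bijective (stalkLin (ClSub.idealModι I) x) := by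
    obtain ⟨hinj, hran⟩ := RefOne.idealModι_stalk I x
    refine ⟨hinj, fun z => ?_⟩
    obtain ⟨r, rfl⟩ := (RefOne.oEquiv x).surjective z
    exact (hran r).2 (htop ▸ Submodule.mem_top)
  have ht : Function.Surjective (stalkLin (ParSh.twistMap I E) x) := by
    have e : KoszTw.tensorMap (𝟙 E) (ClSub.idealModι I) = (DCoh.tensorBi.obj E).map (ClSub.idealModι I) := by
      unfold KoszTw.tensorMap; rw [CategoryTheory.Functor.map_id]; exact Category.id_comp _
    rw [ParSh.twistMap, e, stalkLin_comp, LinearMap.coe_comp]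
    exact ((isIso_iff_stalk _).1 inferInstance x).2.comp
      (bijective_stalk_tensor_right _ E hι).2
  intro z
  obtain ⟨w, rfl⟩ := ht z
  refine ⟨stalkLin (factorThruImageSubobject (ParSh.twistMap I E)) x w, ?_⟩
  show stalkLin (imageSubobject (ParSh.twistMap I E)).arrow x (stalkLin (factorThruImageSubobject (ParSh.twistMap I E)) x w) = _
  rw [← LinearMap.comp_apply, ← stalkLin_comp, imageSubobject_arrow_comp]

variable (k : Type u) [Field k] [X.Over (Spec (CommRingCat.of k))]
  [IsProper (X ↘ Spec (CommRingCat.of k))] {L : X.Modules} (hamp : CohB1.IsAmple L)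

/-- The quotients `cokernel (pieceX j)` of a structure whose bottom has small cokernel. -/
structure Quots {E : X.Modules} (𝓔 : ParSh.Str E) (d : ℕ) (P : ℚ[X]) (PX H : Fin (𝓔.l + 2) → ℚ[X]) : Prop where
  hp : ∀ j, ShStab.IsHilbPoly k X L (cokernel (𝓔.pieceX j).arrow) (H j)
  eq : ∀ j, PX j = P - H j
  deg : ∀ j, (H j).degree < (d : WithBot ℕ)
  zero : H 0 = 0
  mono : ∀ j : Fin (𝓔.l + 1), (H j.castSucc).coeff (d - 1) ≤ (H j.succ).coeff (d - 1)

theorem coeff_eq_zero_of_deg {d n : ℕ} {P : ℚ[X]} (h : P.degree < (d : WithBot ℕ)) (hn : d ≤ n) : P.coeff n = 0 :=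
  coeff_eq_zero_of_degree_lt (lt_of_lt_of_le h (by exact_mod_cast hn))

include hamp in
theorem exists_quots {E : X.Modules} (hE : Coh.IsCoh E) (𝓔 : ParSh.Str E)
    (hcoh : ∀ j, Coh.IsCoh ((𝓔.pieceX j : Subobject E) : X.Modules)) (d : ℕ)
    (hsmall : ∀ j, topologicalKrullDim (CohB1.support (cokernel (𝓔.pieceX j).arrow)) < (d : WithBot ℕ∞))
    {P : ℚ[X]} (hP : ShStab.IsHilbPoly k X L E P) (PX : Fin (𝓔.l + 2) → ℚ[X])
    (hPX : ∀ j, ShStab.IsHilbPoly k X L ((𝓔.pieceX j : Subobject E) : X.Modules) (PX j)) :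
    ∃ H, Quots k (L := L) 𝓔 d P PX H := by
  haveI := EulerIneqLib.isNoetherian_proper (X := X) k
  have hc j : Coh.IsCoh (cokernel (𝓔.pieceX j).arrow) := (QCohLib.isCoh_kernel_cokernel _ (hcoh j) hE).2
  choose H hH hH' using fun j => HilbLib.exists_poly k hamp.1 d (cokernel (𝓔.pieceX j).arrow) (hc j) (hsmall j)
  have heq : ∀ j, P = PX j + H j := fun j =>
    ShStabLib.hp_add k hamp (DevLib.cokerSeq_shortExact (𝓔.pieceX j).arrow) (hcoh j) hE (hc j) (hPX j) hP (hH' j)
  refine ⟨H, hH', fun j => eq_sub_of_add_eq (heq j).symm, hH, ?_, fun j => ?_⟩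
  · haveI : IsIso (𝓔.pieceX 0).arrow :=
      (Subobject.isIso_arrow_iff_eq_top _).2 ((𝓔.pieceX_castSucc 0).trans 𝓔.piece_zero)
    have h0 : PX 0 = P := ShStabLib.hp_unique k (ShStabLib.hp_iso k (asIso (𝓔.pieceX 0).arrow) (hPX 0)) hP
    have := heq 0
    rw [h0] at this
    simpa using this
  · rcases Nat.eq_zero_or_pos d with rfl | hd
    · rw [coeff_eq_zero_of_deg (hH j.castSucc) (Nat.zero_le _), coeff_eq_zero_of_deg (hH j.succ) (Nat.zero_le _)]
    have hle : 𝓔.pieceX j.succ ≤ 𝓔.pieceX j.castSucc := by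
      induction j using Fin.lastCases with
      | last => rw [ParSh.Str.pieceX_succ_last, ParSh.Str.pieceX_castSucc]; exact 𝓔.bot_le _
      | cast i =>
        rw [ParSh.Str.pieceX_succ_castSucc, ParSh.Str.pieceX_castSucc]
        exact 𝓔.piece_anti (Fin.le_def.2 (by simp))
    let q : cokernel (𝓔.pieceX j.succ).arrow ⟶ cokernel (𝓔.pieceX j.castSucc).arrow :=
      cokernel.desc _ (cokernel.π _) (by rw [← Subobject.ofLE_arrow hle, Category.assoc, cokernel.condition, Limits.comp_zero])
    haveI : Epi q := epi_of_epi_fac (cokernel.π_desc _ _ _)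
    have hK := (QCohLib.isCoh_kernel_cokernel q (hc _) (hc _)).1
    have hdim : ShStabLib.DimLE (d - 1) (kernel q) := by
      refine ShStabLib.dimLE_of_mono ?_ (kernel.ι q)
      show topologicalKrullDim _ < _
      rw [show d - 1 + 1 = d by omega]
      exact hsmall _
    obtain ⟨R, -, hR⟩ := ShStabLib.exists_hp k hamp hK hdim
    have hq : (ShortComplex.mk (kernel.ι q) q (kernel.condition q)).ShortExact :=
      ShortComplex.ShortExact.mk' (ShortComplex.exact_of_f_is_kernel _ (kernelIsKernel q)) inferInstance inferInstance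
    have hadd : H j.succ = R + H j.castSucc :=
      ShStabLib.hp_add k hamp hq hK (hc j.succ) (hc j.castSucc) hR (hH' j.succ) (hH' j.castSucc)
    have h0 := ShStabLib.alpha_nonneg k hamp hK hdim hR
    rw [StabCat.alpha] at h0
    rw [hadd, coeff_add]
    have hpos : (0 : ℚ) < ((d - 1).factorial : ℚ) := by exact_mod_cast Nat.factorial_pos _
    linarith [(mul_nonneg_iff_of_pos_left hpos).1 h0]

theorem small_of_along [IsLocallyNoetherian X] {E : X.Modules} (I : X.IdealSheafData) (𝓔 : ParSh.Str E) (h𝓔 : 𝓔.Along I) {d : ℕ}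
    (hsupp : topologicalKrullDim ↥(CohB1.support E ∩ (I.support : Set X)) < (d : WithBot ℕ∞)) (j : Fin (𝓔.l + 2)) :
    topologicalKrullDim (CohB1.support (cokernel (𝓔.pieceX j).arrow)) < (d : WithBot ℕ∞) := by
  refine lt_of_le_of_lt (Topology.IsEmbedding.inclusion ?_).isInducing.topologicalKrullDim_le hsupp
  refine Set.Subset.trans ?_ (support_coker_twistSub I E)
  have hle := 𝓔.bot_le_pieceX j
  rw [show 𝓔.bot = ParSh.twistSub I E from h𝓔] at hle
  haveI : Epi (cokernel.desc (ParSh.twistSub I E).arrow (cokernel.π (𝓔.pieceX j).arrow)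
      (by rw [← Subobject.ofLE_arrow hle, Category.assoc, cokernel.condition, Limits.comp_zero])) :=
    epi_of_epi_fac (cokernel.π_desc _ _ _)
  exact ShStabLib.support_subset_of_epi (cokernel.desc (ParSh.twistSub I E).arrow (cokernel.π (𝓔.pieceX j).arrow) _)

theorem sum_telescope {n : ℕ} (F : Fin (n + 1) → ℝ) :
    ∑ j : Fin n, (F j.succ - F j.castSucc) = F (Fin.last n) - F 0 := by
  rw [Finset.sum_sub_distrib]
  linarith [Fin.sum_univ_succ F, Fin.sum_univ_castSucc F]

/-- The coefficients of the parabolic polynomial. -/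
theorem coeff_parPoly {E : X.Modules} (𝓔 : ParSh.Str E) {P : ℚ[X]} {PX H : Fin (𝓔.l + 2) → ℚ[X]}
    (he : ∀ j, PX j = P - H j) (h0 : H 0 = 0) (n : ℕ) :
    (W4swparbununimod.parPoly 𝓔 PX).coeff n =
      (P.coeff n : ℝ) - ∑ j : Fin (𝓔.l + 1), (𝓔.wtX j.succ - 𝓔.wtX j.castSucc) * ((H j.succ).coeff n : ℝ) := by
  simp only [W4swparbununimod.parPoly, W4swparbununimod.rpoly, coeff_add, finsetSum_coeff, coeff_C_mul, coeff_sub,
    coeff_map, he, map_sub, eq_ratCast]
  have t := sum_telescope fun j => 𝓔.wtX j * ((H j).coeff n : ℝ)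
  simp only [h0, coeff_zero, Rat.cast_zero, mul_zero, sub_zero, ParSh.Str.wtX_last, one_mul] at t
  rw [← t]
  simp only [ParSh.Str.wtX_castSucc, mul_sub, sub_mul, Finset.sum_sub_distrib]
  ring

section Induced

variable {E W : X.Modules} (ι : W ⟶ E) (𝓔 : ParSh.Str E)

theorem pieceX_induced (j : Fin (𝓔.l + 2)) :
    (𝓔.induced ι).pieceX j = (Subobject.pullback ι).obj (𝓔.pieceX j) := by
  induction j using Fin.lastCases with
  | last => rw [ParSh.Str.pieceX_last]; exact (𝓔.induced ι).pieceX_last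
  | cast i => exact ((𝓔.induced ι).pieceX_castSucc i).trans (congrArg (Subobject.pullback ι).obj (𝓔.pieceX_castSucc i).symm)

theorem small_induced {d : ℕ}
    (hsmall : ∀ j, topologicalKrullDim (CohB1.support (cokernel (𝓔.pieceX j).arrow)) < (d : WithBot ℕ∞))
    (j : Fin (𝓔.l + 2)) :
    topologicalKrullDim (CohB1.support (cokernel ((𝓔.induced ι).pieceX j).arrow)) < (d : WithBot ℕ∞) := by
  rw [pieceX_induced]
  haveI := Abelian.mono_cokernel_map_of_isPullback (Subobject.isPullback ι (𝓔.pieceX j)).flip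
  exact lt_of_le_of_lt (Topology.IsEmbedding.inclusion (DevLib.support_subset_of_mono (cokernel.map _ _ _ _
    (Subobject.isPullback ι (𝓔.pieceX j)).flip.w))).isInducing.topologicalKrullDim_le (hsmall j)

theorem isCoh_induced [IsLocallyNoetherian X] [QuasiCompact (X ↘ Spec (CommRingCat.of k))] (hW : Coh.IsCoh W)
    (hE : Coh.IsCoh E) (hcoh : ∀ j, Coh.IsCoh ((𝓔.pieceX j : Subobject E) : X.Modules)) (j : Fin (𝓔.l + 2)) :
    Coh.IsCoh (((𝓔.induced ι).pieceX j : Subobject W) : X.Modules) := by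
  rw [pieceX_induced]
  let S := 𝓔.pieceX j
  have sq := Subobject.isPullback ι S
  let φ := ι ≫ cokernel.π S.arrow
  let l := kernel.lift φ ((Subobject.pullback ι).obj S).arrow
    (by rw [← Category.assoc, ← sq.w, Category.assoc, cokernel.condition, Limits.comp_zero])
  have hz : (kernel.ι φ ≫ ι) ≫ cokernel.π S.arrow = 0 := by rw [Category.assoc]; exact kernel.condition φ
  let m := sq.lift (Abelian.monoLift S.arrow (kernel.ι φ ≫ ι) hz) (kernel.ι φ) (Abelian.monoLift_comp _ _ _)
  have hm : m ≫ ((Subobject.pullback ι).obj S).arrow = kernel.ι φ := sq.lift_snd _ _ _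
  let e : ((Subobject.pullback ι).obj S : X.Modules) ≅ kernel φ :=
    ⟨l, m, (cancel_mono ((Subobject.pullback ι).obj S).arrow).1 (by simp [l, hm]),
      (cancel_mono (kernel.ι φ)).1 (by simp [l, hm])⟩
  exact ShStabLib.isCoh_of_iso e.symm
    (QCohLib.isCoh_kernel_cokernel φ hW (QCohLib.isCoh_kernel_cokernel _ (hcoh j) hE).2).1

end Induced

theorem eval_rpoly (P : ℚ[X]) (n : ℕ) :
    (W4swparbununimod.rpoly P).eval (n : ℝ) = ((P.eval (n : ℚ) : ℚ) : ℝ) := by
  rw [Polynomial.eval_map, show (n : ℝ) = Rat.castHom ℝ (n : ℚ) from (Rat.cast_natCast n).symm, eval₂_at_apply]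
  rfl

theorem tendsto_eval_div {P : ℝ[X]} {d : ℕ} (h : ∀ i, d < i → P.coeff i = 0) :
    Filter.Tendsto (fun n : ℕ => P.eval (n : ℝ) / (n : ℝ) ^ d) Filter.atTop (nhds (P.coeff d)) := by
  have hn : P.natDegree < d + 1 := Nat.lt_succ_of_le (natDegree_le_iff_coeff_eq_zero.2 h)
  have e : (fun n : ℕ => P.eval (n : ℝ) / (n : ℝ) ^ d) =
      fun n : ℕ => ∑ i ∈ Finset.range (d + 1), P.coeff i * ((n : ℝ) ^ i / (n : ℝ) ^ d) := by
    funext n
    rw [eval_eq_sum_range' hn, Finset.sum_div]
    exact Finset.sum_congr rfl fun i _ => mul_div_assoc _ _ _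
  rw [e, show P.coeff d = ∑ i ∈ Finset.range (d + 1), (if i = d then P.coeff i else 0) by simp]
  refine tendsto_finsetSum _ fun i hi => ?_
  rcases eq_or_ne i d with rfl | hne
  · rw [if_pos rfl]
    refine tendsto_const_nhds.congr' ?_
    filter_upwards [Filter.eventually_gt_atTop 0] with n hn
    rw [div_self (pow_ne_zero _ (Nat.cast_ne_zero.2 hn.ne')), mul_one]
  · rw [if_neg hne, ← mul_zero (P.coeff i)]
    exact ((tendsto_pow_div_pow_atTop_zero (by have := Finset.mem_range.1 hi; omega)).comp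
      tendsto_natCast_atTop_atTop).const_mul _

theorem tendsto_ratPoly_div {P : ℚ[X]} {d : ℕ} (h : P.degree < ((d + 1 : ℕ) : WithBot ℕ)) :
    Filter.Tendsto (fun n : ℕ => ((P.eval (n : ℚ) : ℚ) : ℝ) / (n : ℝ) ^ d) Filter.atTop (nhds (P.coeff d : ℝ)) := by
  have := tendsto_eval_div (P := W4swparbununimod.rpoly P) (d := d)
    fun i hi => by rw [coeff_map, coeff_eq_zero_of_deg h hi, map_zero]
  simpa [eval_rpoly, coeff_map] using this

end Groth.Agent.ParHilbLib
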